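import Mathlib

/-!
# A criterion for a word not to be a law

If a group has elements `P i * h s * (P i)⁻¹` whose matrices are polynomial in `s` with rank one leading terms in
general position, then for large fields every nontrivial word takes a non-scalar value.
-/

set_option autoImplicit false

namespace Cfsg.Agent.WordLaw

open Matrix Polynomial

section core

variable {F : Type*} [Field F] {n : Type*} [Fintype n] [DecidableEq n]
variable {ι : Type*} (P Q : ι → Matrix n n F) (E : ι → n → ℕ) (e : ι → n) (D : ℕ)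

/-- The polynomial matrix of a letter. -/
noncomputable def letterPoly (l : ι) : Matrix n n F[X] :=
  (P l).map C * Matrix.diagonal (fun i => (X : F[X]) ^ E l i) * (Q l).map C

theorem letterPoly_apply (l : ι) (i j : n) :
    letterPoly P Q E l i j = ∑ k, C (P l i k * Q l k j) * X ^ E l k := by
  simp only [letterPoly, Matrix.mul_apply, Matrix.map_apply, Matrix.diagonal_apply, mul_ite, mul_zero,
    Finset.sum_ite_eq', Finset.mem_univ, if_true, map_mul]
  exact Finset.sum_congr rfl fun k _ => by ring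

variable {P Q E e D}

theorem natDegree_letterPoly (hle : ∀ l i, E l i ≤ D) (l : ι) (i j : n) :
    (letterPoly P Q E l i j).natDegree ≤ D := by
  rw [letterPoly_apply]
  exact natDegree_sum_le_of_forall_le _ _ fun k _ => (natDegree_C_mul_X_pow_le _ _).trans (hle l k)

theorem coeff_letterPoly (htop : ∀ l, E l (e l) = D) (hlow : ∀ l i, i ≠ e l → E l i < D) (l : ι) (i j : n) :
    (letterPoly P Q E l i j).coeff D = P l i (e l) * Q l (e l) j := by
  rw [letterPoly_apply, finsetSum_coeff, Finset.sum_eq_single (e l)]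
  · rw [coeff_C_mul_X_pow, htop, if_pos rfl]
  · intro k _ hk
    rw [coeff_C_mul_X_pow, if_neg]
    exact fun h => absurd h.symm (hlow l k hk).ne
  · simp

theorem list_prod_leading (htop : ∀ l, E l (e l) = D) (hlow : ∀ l i, i ≠ e l → E l i < D) :
    ∀ (L : List ι) (a : ι),
      (a :: L).IsChain (fun a b => (Q a * P b) (e a) (e b) ≠ 0) →
      ∃ c : F, c ≠ 0 ∧ ∀ i j, (((a :: L).map (letterPoly P Q E)).prod i j).natDegree ≤ D * (a :: L).length ∧
        (((a :: L).map (letterPoly P Q E)).prod i j).coeff (D * (a :: L).length) =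
          c * P a i (e a) * Q ((a :: L).getLast (List.cons_ne_nil _ _))
            (e ((a :: L).getLast (List.cons_ne_nil _ _))) j := by
  have hle : ∀ l i, E l i ≤ D := fun l i => by
    by_cases h : i = e l
    · rw [h, htop]
    · exact (hlow l i h).le
  intro L
  induction L with
  | nil =>
    intro a _
    refine ⟨1, one_ne_zero, fun i j => ?_⟩
    simp only [List.map_cons, List.map_nil, List.prod_cons, List.prod_nil, mul_one, List.length_cons,
      List.length_nil, zero_add, List.getLast_singleton, one_mul]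
    exact ⟨natDegree_letterPoly hle a i j, coeff_letterPoly htop hlow a i j⟩
  | cons b L ih =>
    intro a hch
    rw [List.isChain_cons_cons] at hch
    obtain ⟨c, hc, hM⟩ := ih b hch.2
    refine ⟨(Q a * P b) (e a) (e b) * c, mul_ne_zero hch.1 hc, fun i j => ?_⟩
    rw [List.map_cons, List.prod_cons, Matrix.mul_apply,
      show D * (a :: b :: L).length = D + D * (b :: L).length by simp only [List.length_cons]; ring]
    refine ⟨natDegree_sum_le_of_forall_le _ _ fun k _ =>
      natDegree_mul_le.trans (Nat.add_le_add (natDegree_letterPoly hle a i k) (hM k j).1), ?_⟩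
    rw [finsetSum_coeff, List.getLast_cons (List.cons_ne_nil _ _)]
    calc _ = ∑ k, (P a i (e a) * Q a (e a) k) * (c * P b k (e b) *
          Q ((b :: L).getLast (List.cons_ne_nil _ _)) (e ((b :: L).getLast (List.cons_ne_nil _ _))) j) :=
          Finset.sum_congr rfl fun k _ => by
            rw [coeff_mul_add_eq_of_natDegree_le (natDegree_letterPoly hle a i k) (hM k j).1,
              coeff_letterPoly htop hlow, (hM k j).2]
      _ = _ := by
          simp only [Matrix.mul_apply, Finset.sum_mul]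
          exact Finset.sum_congr rfl fun k _ => by ring

theorem exists_prod_ne_scalar [Fintype F] [Nontrivial n] (hPQ : ∀ l, P l * Q l = 1)
    (htop : ∀ l, E l (e l) = D) (hlow : ∀ l i, i ≠ e l → E l i < D)
    (L : List ι) (hL : L ≠ []) (hch : L.IsChain (fun a b => (Q a * P b) (e a) (e b) ≠ 0))
    (hq : D * L.length + 1 < Fintype.card F) :
    ∃ s : F, s ≠ 0 ∧ ∀ t : F,
      (L.map (fun l => P l * Matrix.diagonal (fun i => s ^ E l i) * Q l)).prod ≠ t • 1 := by
  classical
  obtain ⟨a, L, rfl⟩ := List.exists_cons_of_ne_nil hL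
  obtain ⟨c, hc, hM⟩ := list_prod_leading htop hlow L a hch
  set z := (a :: L).getLast (List.cons_ne_nil _ _) with hz
  set M := ((a :: L).map (letterPoly P Q E)).prod with hMdef
  set K := D * (a :: L).length with hK
  have hQP : ∀ l, Q l * P l = 1 := fun l => mul_eq_one_comm.mp (hPQ l)
  obtain ⟨i₀, hi₀⟩ : ∃ i, P a i (e a) ≠ 0 := by
    by_contra h
    push Not at h
    have h1 := congrFun (congrFun (hQP a) (e a)) (e a)
    simp [Matrix.mul_apply, h] at h1
  obtain ⟨j₀, hj₀⟩ : ∃ j, Q z (e z) j ≠ 0 := by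
    by_contra h
    push Not at h
    have h1 := congrFun (congrFun (hQP z) (e z)) (e z)
    simp [Matrix.mul_apply, h] at h1
  -- a polynomial that vanishes wherever the product is scalar
  obtain ⟨f, hf, hfs⟩ : ∃ f : F[X], f.coeff K ≠ 0 ∧ f.natDegree ≤ K ∧
      ∀ (s t : F), M.map (eval s) = t • (1 : Matrix n n F) → f.eval s = 0 := by
    by_cases hne : ∃ i j, i ≠ j ∧ (M i j).coeff K ≠ 0
    · obtain ⟨i, j, hij, h⟩ := hne
      refine ⟨M i j, h, (hM i j).1, fun s t hst => ?_⟩
      have := congrFun (congrFun hst i) j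
      simpa [hij] using this
    · push Not at hne
      have hii : i₀ = j₀ := by
        by_contra hij
        exact mul_ne_zero (mul_ne_zero hc hi₀) hj₀ ((hM i₀ j₀).2 ▸ hne i₀ j₀ hij)
      subst hii
      obtain ⟨j, hj⟩ := exists_ne i₀
      have h1 : (M i₀ j).coeff K = 0 := hne i₀ j hj.symm
      rw [(hM i₀ j).2] at h1
      have hQj : Q z (e z) j = 0 := (mul_eq_zero.mp h1).resolve_left (mul_ne_zero hc hi₀)
      refine ⟨M i₀ i₀ - M j j, ?_, (natDegree_sub_le _ _).trans (max_le (hM i₀ i₀).1 (hM j j).1), fun s t hst => ?_⟩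
      · rw [coeff_sub, (hM i₀ i₀).2, (hM j j).2, hQj, mul_zero, sub_zero]
        exact mul_ne_zero (mul_ne_zero hc hi₀) hj₀
      · have h2 := congrFun (congrFun hst i₀) i₀
        have h3 := congrFun (congrFun hst j) j
        simp only [Matrix.map_apply, Matrix.smul_apply, Matrix.one_apply_eq] at h2 h3
        rw [eval_sub, h2, h3, sub_self]
  obtain ⟨hfd, hfs⟩ := hfs
  have hf0 : f ≠ 0 := fun h => hf (by rw [h, coeff_zero])
  obtain ⟨s, hs⟩ : ∃ s : F, s ∉ insert (0 : F) f.roots.toFinset := by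
    by_contra h
    push Not at h
    have h1 : Fintype.card F ≤ (insert (0 : F) f.roots.toFinset).card :=
      Finset.card_le_card (s := Finset.univ) fun x _ => h x
    have h2 := Finset.card_insert_le (0 : F) f.roots.toFinset
    have h3 := (Multiset.toFinset_card_le f.roots).trans (card_roots' f)
    omega
  rw [Finset.mem_insert, not_or, Multiset.mem_toFinset, mem_roots hf0] at hs
  refine ⟨s, hs.1, fun t ht => hs.2 (hfs s t ?_)⟩
  rw [← ht]
  have h := map_list_prod ((evalRingHom s).mapMatrix : Matrix n n F[X] →+* Matrix n n F)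
    ((a :: L).map (letterPoly P Q E))
  rw [List.map_map] at h
  refine h.trans (congrArg List.prod (List.map_congr_left fun l _ => ?_))
  simp only [Function.comp_apply, letterPoly, map_mul, RingHom.mapMatrix_apply, Matrix.map_map]
  congr 1
  · congr 1
    · ext i j; simp
    · rw [Matrix.diagonal_map (map_zero _)]; simp
  · ext i j; simp

end core

theorem list_prod_smul {F : Type*} [Field F] {n : Type*} [Fintype n] [DecidableEq n] {ι : Type*}
    (g h : ι → Matrix n n F) (c : ι → F) (hc : ∀ l, c l ≠ 0) (hg : ∀ l, g l = c l • h l) (L : List ι) :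
    ∃ k : F, k ≠ 0 ∧ (L.map g).prod = k • (L.map h).prod := by
  induction L with
  | nil => exact ⟨1, one_ne_zero, by simp⟩
  | cons a L ih =>
    obtain ⟨k, hk, hk'⟩ := ih
    refine ⟨c a * k, mul_ne_zero (hc a) hk, ?_⟩
    rw [List.map_cons, List.map_cons, List.prod_cons, List.prod_cons, hk', hg, smul_mul_assoc, mul_smul_comm,
      smul_smul]

/-- The criterion: conjugates `P i * h s * (P i)⁻¹` of a split torus element in general position. -/
theorem exists_lift_not_scalar {G : Type*} [Group G] {F : Type*} [Field F] [Fintype F]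
    {n : Type*} [Fintype n] [DecidableEq n] [Nontrivial n]
    (toM : G →* Matrix n n F) (w : FreeGroup ℕ) (hw : w ≠ 1) (Pg : ℕ → G) (h : F → G)
    (E : Bool → n → ℕ) (e : Bool → n) (D : ℕ) (htop : ∀ b, E b (e b) = D)
    (hlow : ∀ b i, i ≠ e b → E b i < D)
    (hh : ∀ (b : Bool) (s : F), s ≠ 0 →
      ∃ c : F, c ≠ 0 ∧ toM (cond b (h s) (h s)⁻¹) = c • Matrix.diagonal (fun i => s ^ E b i))
    (hgen : ∀ a ∈ w.toWord, ∀ b ∈ w.toWord, (a.1 = b.1 → a.2 = b.2) →
      toM ((Pg a.1)⁻¹ * Pg b.1) (e a.2) (e b.2) ≠ 0)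
    (hq : D * w.toWord.length + 1 < Fintype.card F) :
    ∃ f : ℕ → G, ∀ t : F, toM (FreeGroup.lift f w) ≠ t • 1 := by
  classical
  have hL : w.toWord ≠ [] := fun h => hw (FreeGroup.toWord_eq_nil_iff.mp h)
  have hch : w.toWord.IsChain fun a b => (toM (Pg a.1)⁻¹ * toM (Pg b.1)) (e a.2) (e b.2) ≠ 0 := by
    refine (FreeGroup.isReduced_toWord (x := w)).imp_of_mem_imp fun a b ha hb hab => ?_
    rw [← map_mul]
    exact hgen a ha b hb hab
  obtain ⟨s, hs, hne⟩ := exists_prod_ne_scalar
    (P := fun l : ℕ × Bool => toM (Pg l.1)) (Q := fun l => toM (Pg l.1)⁻¹)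
    (E := fun l => E l.2) (e := fun l => e l.2) (D := D)
    (fun l => by rw [← map_mul, mul_inv_cancel, map_one]) (fun l => htop l.2) (fun l => hlow l.2)
    w.toWord hL hch hq
  choose c hc hc' using fun b => hh b s hs
  refine ⟨fun i => Pg i * h s * (Pg i)⁻¹, fun t ht => ?_⟩
  obtain ⟨k, hk, hk'⟩ := list_prod_smul
    (fun l : ℕ × Bool => toM (cond l.2 (Pg l.1 * h s * (Pg l.1)⁻¹) (Pg l.1 * h s * (Pg l.1)⁻¹)⁻¹))
    (fun l => toM (Pg l.1) * Matrix.diagonal (fun i => s ^ E l.2 i) * toM (Pg l.1)⁻¹)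
    (fun l => c l.2) (fun l => hc l.2) (fun l => by
      have h1 : cond l.2 (Pg l.1 * h s * (Pg l.1)⁻¹) (Pg l.1 * h s * (Pg l.1)⁻¹)⁻¹ =
          Pg l.1 * cond l.2 (h s) (h s)⁻¹ * (Pg l.1)⁻¹ := by
        cases l.2 <;> simp [mul_assoc]
      rw [h1, map_mul, map_mul, hc', mul_smul_comm, smul_mul_assoc]) w.toWord
  have h2 : FreeGroup.lift (fun i => Pg i * h s * (Pg i)⁻¹) w =
      (w.toWord.map fun x => cond x.2 (Pg x.1 * h s * (Pg x.1)⁻¹) (Pg x.1 * h s * (Pg x.1)⁻¹)⁻¹).prod := by
    conv_lhs => rw [← FreeGroup.mk_toWord (x := w)]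
    rw [FreeGroup.lift_mk]
  rw [h2, map_list_prod, List.map_map] at ht
  refine hne (k⁻¹ * t) ?_
  have h3 : k • (w.toWord.map fun l => toM (Pg l.1) * Matrix.diagonal (fun i => s ^ E l.2 i) *
      toM (Pg l.1)⁻¹).prod = t • (1 : Matrix n n F) := hk'.symm.trans ht
  rw [← smul_smul, ← h3, smul_smul, inv_mul_cancel₀ hk, one_smul]

end Cfsg.Agent.WordLaw
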