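import Mathlib
import Cfsg.Agent.Lib.WordLaw.Generic

/-!
# No nontrivial word is a law in `PSL₂` of a large field
-/

set_option autoImplicit false

namespace Cfsg.Agent.WordLaw

open Matrix

/-- A bound beyond which `w` is not a law. -/
def wordBound (w : FreeGroup ℕ) : ℕ :=
  (w.toWord.map fun x => x.1 + 1).sum + w.toWord.length

theorem fst_lt_wordBound {w : FreeGroup ℕ} {a : ℕ × Bool} (ha : a ∈ w.toWord) : a.1 < wordBound w := by
  have h := List.single_le_sum (l := w.toWord.map fun x => x.1 + 1) (fun _ _ => Nat.zero_le _) (a.1 + 1)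
    (List.mem_map.mpr ⟨a, ha, rfl⟩)
  unfold wordBound
  omega

theorem length_le_wordBound (w : FreeGroup ℕ) : w.toWord.length ≤ wordBound w := Nat.le_add_left _ _

/-- The element of `SL₂` with the given entries. -/
def sl2mk {R : Type*} [CommRing R] (a b c d : R) (h : a * d - b * c = 1) : Matrix.SpecialLinearGroup (Fin 2) R :=
  ⟨!![a, b; c, d], by rw [det_fin_two_of]; exact h⟩

@[local simp] theorem coe_sl2mk {R : Type*} [CommRing R] (a b c d : R) (h : a * d - b * c = 1) :
    ((sl2mk a b c d h : Matrix.SpecialLinearGroup (Fin 2) R) : Matrix (Fin 2) (Fin 2) R) = !![a, b; c, d] := rfl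

theorem exists_lift_not_mem_center_SL2 (w : FreeGroup ℕ) (hw : w ≠ 1) (F : Type*) [Field F] [Fintype F]
    (hq : 2 * wordBound w + 2 ≤ Fintype.card F) :
    ∃ f : ℕ → Matrix.SpecialLinearGroup (Fin 2) F,
      FreeGroup.lift f w ∉ Subgroup.center (Matrix.SpecialLinearGroup (Fin 2) F) := by
  classical
  set k := wordBound w with hk
  obtain ⟨emb⟩ : Nonempty (Fin k × Bool ↪ F) := Function.Embedding.nonempty_of_card_le (by simp; omega)
  let p : ℕ → Bool → F := fun i b => if h : i < k then emb (⟨i, h⟩, b) else cond b 1 0
  have hd : ∀ i, p i true - p i false ≠ 0 := fun i => by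
    by_cases h : i < k
    · simp only [p, dif_pos h]
      exact sub_ne_zero.mpr fun he => by simpa using emb.injective he
    · simp [p, dif_neg h]
  have hinj : ∀ i j b b', i < k → j < k → p i b = p j b' → i = j ∧ b = b' := fun i j b b' hi hj h => by
    simp only [p, dif_pos hi, dif_pos hj] at h
    simpa using emb.injective h
  let Pg : ℕ → Matrix.SpecialLinearGroup (Fin 2) F := fun i =>
    sl2mk 1 (p i true - p i false)⁻¹ (p i false) (p i true * (p i true - p i false)⁻¹) (by
      field_simp [hd i])
  let h : F → Matrix.SpecialLinearGroup (Fin 2) F := fun s =>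
    if hs : s = 0 then 1 else sl2mk s 0 0 s⁻¹ (by field_simp [hs]; ring)
  let toM : Matrix.SpecialLinearGroup (Fin 2) F →* Matrix (Fin 2) (Fin 2) F :=
    { toFun := fun g => (g : Matrix (Fin 2) (Fin 2) F), map_one' := rfl, map_mul' := fun _ _ => rfl }
  obtain ⟨f, hf⟩ := exists_lift_not_scalar toM w hw Pg h
    (fun b i => if i = cond b 0 1 then 2 else 0) (fun b => cond b 0 1) 2 (fun b => by simp)
    (fun b i hi => by simp [hi])
    (fun b s hs => by
      refine ⟨s⁻¹, inv_ne_zero hs, ?_⟩
      ext i j
      cases b <;> fin_cases i <;> fin_cases j <;>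
        simp [toM, h, hs, Matrix.SpecialLinearGroup.coe_inv, Matrix.adjugate_fin_two, pow_two])
    (fun a ha b hb hab => by
      obtain ⟨i, s⟩ := a
      obtain ⟨j, t⟩ := b
      have hi : i < k := fst_lt_wordBound ha
      have hj : j < k := fst_lt_wordBound hb
      simp only at hab
      cases s <;> cases t <;>
        simp [toM, Pg, Matrix.SpecialLinearGroup.coe_inv, Matrix.adjugate_fin_two, Matrix.mul_apply,
          Fin.sum_univ_two] <;> intro h0
      · have h1 : (p j true - p i false) * (p j true - p j false)⁻¹ = 0 := by linear_combination h0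
        obtain ⟨hij, hst⟩ := hinj j i true false hj hi
          (sub_eq_zero.mp ((mul_eq_zero.mp h1).resolve_right (inv_ne_zero (hd j))))
        exact absurd hst (by simp)
      · have h1 : p j false - p i false = 0 := by linear_combination h0
        exact absurd (hab (hinj j i false false hj hi (sub_eq_zero.mp h1)).1.symm) (by simp)
      · have h1 : (p i true - p j true) * ((p i true - p i false)⁻¹ * (p j true - p j false)⁻¹) = 0 := by
          linear_combination h0
        exact absurd (hab (hinj i j true true hi hj
          (sub_eq_zero.mp ((mul_eq_zero.mp h1).resolve_right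
            (mul_ne_zero (inv_ne_zero (hd i)) (inv_ne_zero (hd j)))))).1) (by simp)
      · have h1 : (p i true - p j false) * (p i true - p i false)⁻¹ = 0 := by linear_combination h0
        obtain ⟨hij, hst⟩ := hinj i j true false hi hj
          (sub_eq_zero.mp ((mul_eq_zero.mp h1).resolve_right (inv_ne_zero (hd i))))
        exact absurd hst (by simp))
    (by have := length_le_wordBound w; omega)
  refine ⟨f, fun hc => ?_⟩
  obtain ⟨r, _, hr⟩ := Matrix.SpecialLinearGroup.mem_center_iff.mp hc
  exact hf r (by ext i j; simp [toM, ← hr, Matrix.one_apply, Matrix.diagonal_apply])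

end Cfsg.Agent.WordLaw
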