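import Mathlib
import Cfsg.Agent.Lib.WordLaw.SL2

/-!
# No nontrivial word is a law in large alternating groups
-/

set_option autoImplicit false

namespace Cfsg.Agent.WordLaw

open Equiv

theorem exists_partial_perm {α : Type*} [Finite α] (R : α → α → Prop)
    (h₁ : ∀ a b b', R a b → R a b' → b = b') (h₂ : ∀ a a' b, R a b → R a' b → a = a') :
    ∃ σ : Perm α, ∀ a b, R a b → σ a = b := by
  classical
  let e : {a // ∃ b, R a b} ≃ {b // ∃ a, R a b} :=
    { toFun := fun a => ⟨a.2.choose, a.1, a.2.choose_spec⟩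
      invFun := fun b => ⟨b.2.choose, b.1, b.2.choose_spec⟩
      left_inv := fun a => by
        apply Subtype.ext
        have hb : ∃ a', R a' a.2.choose := ⟨a.1, a.2.choose_spec⟩
        exact h₂ _ _ _ hb.choose_spec a.2.choose_spec
      right_inv := fun b => by
        apply Subtype.ext
        have hb : ∃ b', R b.2.choose b' := ⟨b.1, b.2.choose_spec⟩
        exact h₁ _ _ _ hb.choose_spec b.2.choose_spec }
  have := Fintype.ofFinite α
  refine ⟨e.extendSubtype, fun a b hab => ?_⟩
  rw [Equiv.extendSubtype_apply_of_mem _ _ ⟨b, hab⟩]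
  exact h₁ _ _ _ (Exists.choose_spec (⟨b, hab⟩ : ∃ b, R a b)) hab

theorem exists_perm_lift_ne_one (w : FreeGroup ℕ) (hw : w ≠ 1) :
    ∃ f : ℕ → Perm (Fin (w.toWord.length + 1)), FreeGroup.lift f w ≠ 1 := by
  classical
  set L := w.toWord with hLdef
  have hL : L.IsChain fun a b => a.1 = b.1 → a.2 = b.2 := FreeGroup.isReduced_toWord
  rw [List.isChain_iff_getElem] at hL
  -- position `k` carries the point `k + 1` to the point `k`
  let R : ℕ → Fin (L.length + 1) → Fin (L.length + 1) → Prop := fun i a b =>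
    ∃ (k : ℕ) (hk : k < L.length), L[k].1 = i ∧
      ((L[k].2 = true ∧ a.val = k + 1 ∧ b.val = k) ∨ (L[k].2 = false ∧ a.val = k ∧ b.val = k + 1))
  have adj : ∀ (k : ℕ) (hk : k + 1 < L.length), L[k].1 = L[k+1].1 → L[k].2 = L[k+1].2 := fun k hk => hL k hk
  have h₁ : ∀ i a b b', R i a b → R i a b' → b = b' := by
    rintro i a b b' ⟨k, hk, hki, hk'⟩ ⟨l, hl, hli, hl'⟩
    rcases hk' with ⟨u, ha, hb⟩ | ⟨u, ha, hb⟩ <;> rcases hl' with ⟨v, ha', hb'⟩ | ⟨v, ha', hb'⟩
    · exact Fin.ext (by omega)
    · have hlk : l = k + 1 := by omega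
      subst hlk
      have := adj k hl (hki.trans hli.symm)
      simp_all
    · have hlk : k = l + 1 := by omega
      subst hlk
      have := adj l hk (hli.trans hki.symm)
      simp_all
    · exact Fin.ext (by omega)
  have h₂ : ∀ i a a' b, R i a b → R i a' b → a = a' := by
    rintro i a a' b ⟨k, hk, hki, hk'⟩ ⟨l, hl, hli, hl'⟩
    rcases hk' with ⟨u, ha, hb⟩ | ⟨u, ha, hb⟩ <;> rcases hl' with ⟨v, ha', hb'⟩ | ⟨v, ha', hb'⟩
    · exact Fin.ext (by omega)
    · have hlk : k = l + 1 := by omega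
      subst hlk
      have := adj l hk (hli.trans hki.symm)
      simp_all
    · have hlk : l = k + 1 := by omega
      subst hlk
      have := adj k hl (hki.trans hli.symm)
      simp_all
    · exact Fin.ext (by omega)
  choose σ hσ using fun i => exists_partial_perm (R i) (h₁ i) (h₂ i)
  refine ⟨σ, fun h1 => ?_⟩
  set g : ℕ × Bool → Perm (Fin (L.length + 1)) := fun x => cond x.2 (σ x.1) (σ x.1)⁻¹ with hg
  have key : ∀ j (hj : j ≤ L.length),
      ((L.drop j).map g).prod (Fin.last L.length) = ⟨j, Nat.lt_succ_of_le hj⟩ := by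
    intro j hj
    induction hd : L.length - j generalizing j with
    | zero =>
      obtain rfl : j = L.length := by omega
      simp [Fin.last]
    | succ d ih =>
      have hjl : j < L.length := by omega
      rw [List.drop_eq_getElem_cons hjl, List.map_cons, List.prod_cons, Perm.mul_apply,
        ih (j+1) hjl (by omega), hg]
      cases hb : L[j].2
      · rw [show L[j] = (L[j].1, false) from Prod.ext rfl hb]; simp only [cond_false]; rw [Perm.inv_eq_iff_eq]
        exact (hσ _ _ _ ⟨j, hjl, rfl, Or.inr ⟨hb, rfl, rfl⟩⟩).symm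
      · rw [show L[j] = (L[j].1, true) from Prod.ext rfl hb]; simp only [cond_true]
        exact hσ _ _ _ ⟨j, hjl, rfl, Or.inl ⟨hb, rfl, rfl⟩⟩
  have h2 : FreeGroup.lift σ w = (L.map g).prod := by
    conv_lhs => rw [← FreeGroup.mk_toWord (x := w)]
    rw [FreeGroup.lift_mk]
  have h3 := key 0 (Nat.zero_le _)
  rw [List.drop_zero, ← h2, h1, Perm.one_apply] at h3
  have hL0 : L.length ≠ 0 := by simp [hLdef, FreeGroup.toWord_eq_nil_iff, hw]
  have := congrArg Fin.val h3
  simp only [Fin.val_last] at this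
  omega

/-- For large `n`, `w` is not a law in `A_n`. -/
theorem exists_alt_lift_ne_one (w : FreeGroup ℕ) (hw : w ≠ 1) (n : ℕ) (hn : wordBound w + 3 ≤ n) :
    ∃ f : ℕ → alternatingGroup (Fin n), FreeGroup.lift f w ≠ 1 := by
  classical
  set m := w.toWord.length + 1 with hm
  obtain ⟨f, hf⟩ := exists_perm_lift_ne_one w hw
  let τ : ℤˣ →* Perm (Fin 2) :=
    { toFun := fun u => if u = 1 then 1 else swap 0 1
      map_one' := if_pos rfl
      map_mul' := by decide }
  have hτ : ∀ u, Perm.sign (τ u) = u := by decide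
  let ψ : Perm (Fin m) →* Perm (Fin m ⊕ Fin 2) :=
    (Perm.sumCongrHom (Fin m) (Fin 2)).comp ((MonoidHom.id _).prod (τ.comp Perm.sign))
  obtain ⟨emb⟩ : Nonempty (Fin m ⊕ Fin 2 ↪ Fin n) :=
    Function.Embedding.nonempty_of_card_le (by
      have := length_le_wordBound w
      simp [Fintype.card_sum, hm]; omega)
  let φ : Perm (Fin m) →* Perm (Fin n) := (Perm.viaEmbeddingHom emb).comp ψ
  have hev : ∀ σ, φ σ ∈ alternatingGroup (Fin n) := fun σ => by
    rw [Perm.mem_alternatingGroup]
    show Perm.sign (Perm.viaEmbedding (ψ σ) emb) = 1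
    unfold Perm.viaEmbedding; rw [Perm.sign_extendDomain]
    show Perm.sign (Perm.sumCongr σ (τ (Perm.sign σ))) = 1
    rw [Perm.sign_sumCongr, hτ, Int.units_mul_self]
  let φ' : Perm (Fin m) →* alternatingGroup (Fin n) := φ.codRestrict _ hev
  have hinj : Function.Injective φ' := by
    intro a b hab
    have h1 : φ a = φ b := congrArg Subtype.val hab
    have h2 : ψ a = ψ b := Perm.viaEmbeddingHom_injective emb h1
    exact congrArg Prod.fst (Perm.sumCongrHom_injective h2)
  refine ⟨fun i => φ' (f i), fun h => hf (hinj ?_)⟩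
  rw [map_one, ← h]
  exact FreeGroup.lift_unique (φ'.comp (FreeGroup.lift f)) (fun i => by simp)

end Cfsg.Agent.WordLaw
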