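import Mathlib
import Cfsg.Prelude.Def_Classical
import Cfsg.Agent.Lib.WordLaw.Alt
import Cfsg.Agent.Lib.GL.Simple

/-!
# A law bounds the field and the rank of a classical group

Injective homomorphisms `SL₂ → K` and `A_n → K` into the classical carriers.
-/

set_option autoImplicit false

namespace Cfsg.Agent.WordLaw

open Matrix

theorem map_lift_apply {G H : Type*} [Group G] [Group H] (φ : G →* H) (f : ℕ → G) (w : FreeGroup ℕ) :
    φ (FreeGroup.lift f w) = FreeGroup.lift (fun i => φ (f i)) w :=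
  FreeGroup.lift_unique (φ.comp (FreeGroup.lift f)) (fun i => by simp)

variable {w : FreeGroup ℕ} {K : Type*} [Group K]

/-- `w` is a law in `K` modulo its centre. -/
def CentralLaw (w : FreeGroup ℕ) (K : Type*) [Group K] : Prop :=
  ∀ f : ℕ → K, FreeGroup.lift f w ∈ Subgroup.center K

theorem centralLaw_of_equiv {G : Type*} [Group G] (e : G ≃* K ⧸ Subgroup.center K)
    (h : ∀ f : ℕ → G, FreeGroup.lift f w = 1) : CentralLaw w K := fun f => by
  rw [← QuotientGroup.eq_one_iff]
  have h1 := map_lift_apply e.symm.toMonoidHom (fun i => QuotientGroup.mk' _ (f i)) w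
  rw [h] at h1
  have h2 : FreeGroup.lift (fun i => QuotientGroup.mk' (Subgroup.center K) (f i)) w = 1 :=
    e.symm.injective (by simpa using h1)
  exact (map_lift_apply (QuotientGroup.mk' (Subgroup.center K)) f w).trans h2

theorem CentralLaw.mem_center_of_injective {H : Type*} [Group H] (hK : CentralLaw w K) (φ : H →* K)
    (hφ : Function.Injective φ) (f : ℕ → H) : FreeGroup.lift f w ∈ Subgroup.center H := by
  rw [Subgroup.mem_center_iff]
  intro g
  have h := Subgroup.mem_center_iff.mp (hK fun i => φ (f i)) (φ g)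
  rw [← map_lift_apply φ f w, ← map_mul, ← map_mul] at h
  exact hφ h

theorem CentralLaw.card_field_lt (hK : CentralLaw w K) (hw : w ≠ 1) {F : Type*} [Field F] [Fintype F]
    (φ : Matrix.SpecialLinearGroup (Fin 2) F →* K) (hφ : Function.Injective φ) :
    Fintype.card F < 2 * wordBound w + 2 := by
  by_contra h
  obtain ⟨f, hf⟩ := exists_lift_not_mem_center_SL2 w hw F (not_lt.mp h)
  exact hf (hK.mem_center_of_injective φ hφ f)

theorem CentralLaw.degree_lt (hK : CentralLaw w K) (hw : w ≠ 1) {n : ℕ}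
    (φ : alternatingGroup (Fin n) →* K) (hφ : Function.Injective φ) : n < wordBound w + 4 := by
  by_contra h
  push Not at h
  obtain ⟨f, hf⟩ := exists_alt_lift_ne_one w hw n (by omega)
  have hc := hK.mem_center_of_injective φ hφ f
  rw [alternatingGroup.center_eq_bot (by simp; omega), Subgroup.mem_bot] at hc
  exact hf hc

/-- A matrix of determinant one as an element of `SL`. -/
def slOf {ι R : Type*} [Fintype ι] [DecidableEq ι] [CommRing R] (M : Matrix ι ι R) (h : M.det = 1) :
    Matrix.SpecialLinearGroup ι R := ⟨M, h⟩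

@[local simp] theorem coe_slOf {ι R : Type*} [Fintype ι] [DecidableEq ι] [CommRing R] (M : Matrix ι ι R)
    (h : M.det = 1) : ((slOf M h : Matrix.SpecialLinearGroup ι R) : Matrix ι ι R) = M := rfl

section SL

variable (F : Type*) [Field F]

theorem exists_block_SL2 (n : ℕ) (hn : 2 ≤ n) :
    ∃ φ : Matrix.SpecialLinearGroup (Fin 2) F →* Matrix.SpecialLinearGroup (Fin n) F, Function.Injective φ := by
  obtain ⟨k, rfl⟩ : ∃ k, n = 2 + k := ⟨n - 2, by omega⟩
  refine ⟨{ toFun := fun A => slOf (Matrix.reindexAlgEquiv F F finSumFinEquiv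
              (fromBlocks (A : Matrix (Fin 2) (Fin 2) F) 0 0 (1 : Matrix (Fin k) (Fin k) F))) (by
              rw [Matrix.det_reindexAlgEquiv, det_fromBlocks_zero₁₂, det_one, mul_one, A.2])
            map_one' := ?_, map_mul' := ?_ }, ?_⟩
  · apply Subtype.ext
    rw [coe_slOf, Matrix.SpecialLinearGroup.coe_one, fromBlocks_one, map_one]
    rfl
  · intro A B
    apply Subtype.ext
    simp only [Matrix.SpecialLinearGroup.coe_mul, coe_slOf, ← map_mul, fromBlocks_multiply,
      Matrix.mul_zero, Matrix.zero_mul, add_zero, zero_add, Matrix.one_mul]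
  · intro A B h
    have h1 := (Matrix.reindexAlgEquiv F F finSumFinEquiv).injective (congrArg Subtype.val h)
    exact Subtype.ext (by simpa using congrArg Matrix.toBlocks₁₁ h1)

theorem exists_perm_SL (n : ℕ) :
    ∃ φ : alternatingGroup (Fin n) →* Matrix.SpecialLinearGroup (Fin n) F, Function.Injective φ := by
  refine ⟨{ toFun := fun σ => slOf (Equiv.Perm.permMatrix F (σ⁻¹ : Equiv.Perm (Fin n))) (by
              rw [Matrix.det_permutation, Equiv.Perm.sign_inv, Equiv.Perm.mem_alternatingGroup.mp σ.2]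
              simp)
            map_one' := ?_, map_mul' := ?_ }, ?_⟩
  · apply Subtype.ext; simp
  · intro a b; apply Subtype.ext; simp [_root_.mul_inv_rev, Matrix.permMatrix_mul]
  · intro a b h
    have h1 : Equiv.Perm.permMatrix F (a : Equiv.Perm (Fin n))⁻¹ = Equiv.Perm.permMatrix F (b : Equiv.Perm (Fin n))⁻¹ :=
      congrArg Subtype.val h
    refine Subtype.ext (inv_injective (Equiv.ext fun i => ?_))
    have h2 := congrFun (congrFun h1 i) ((a : Equiv.Perm (Fin n))⁻¹ i)
    simp [Equiv.Perm.permMatrix, PEquiv.toMatrix_apply] at h2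
    exact h2.symm

/-- Consequences of a law for a group containing `SL_n`. -/
theorem CentralLaw.bounds_of_SL [Fintype F] (hK : CentralLaw w K) (hw : w ≠ 1) {n : ℕ} (hn : 2 ≤ n)
    (φ : Matrix.SpecialLinearGroup (Fin n) F →* K) (hφ : Function.Injective φ) :
    Fintype.card F < 2 * wordBound w + 2 ∧ n < wordBound w + 4 := by
  obtain ⟨ψ, hψ⟩ := exists_block_SL2 F n hn
  obtain ⟨χ, hχ⟩ := exists_perm_SL F n
  exact ⟨hK.card_field_lt hw (φ.comp ψ) (hφ.comp hψ), hK.degree_lt hw (φ.comp χ) (hφ.comp hχ)⟩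

/-- `A ↦ diag(A, A⁻ᵀ)`. -/
def pairHom (n : ℕ) : Matrix.SpecialLinearGroup (Fin n) F →* Matrix (Fin n ⊕ Fin n) (Fin n ⊕ Fin n) F where
  toFun A := fromBlocks (A : Matrix (Fin n) (Fin n) F) 0 0 ((A⁻¹ : Matrix.SpecialLinearGroup (Fin n) F) : Matrix (Fin n) (Fin n) F)ᵀ
  map_one' := by simp [fromBlocks_one]
  map_mul' A B := by simp [fromBlocks_multiply, Matrix.transpose_mul]

theorem pairHom_injective (n : ℕ) : Function.Injective (pairHom F n) := fun A B h =>
  Subtype.ext (by simpa [pairHom] using congrArg Matrix.toBlocks₁₁ h)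

theorem exists_SL_Sp (n : ℕ) :
    ∃ φ : Matrix.SpecialLinearGroup (Fin n) F →* Matrix.symplecticGroup (Fin n) F, Function.Injective φ := by
  refine ⟨(pairHom F n).codRestrict _ fun A => ?_, fun A B h => pairHom_injective F n (congrArg Subtype.val h)⟩
  rw [SymplecticGroup.mem_iff]
  have h1 : (A : Matrix (Fin n) (Fin n) F) * ((A⁻¹ : Matrix.SpecialLinearGroup (Fin n) F) : Matrix (Fin n) (Fin n) F) = 1 := by
    rw [← Matrix.SpecialLinearGroup.coe_mul, mul_inv_cancel, Matrix.SpecialLinearGroup.coe_one]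
  have h2 : ((A⁻¹ : Matrix.SpecialLinearGroup (Fin n) F) : Matrix (Fin n) (Fin n) F)ᵀ * (A : Matrix (Fin n) (Fin n) F)ᵀ = 1 := by
    rw [← Matrix.transpose_mul, h1, Matrix.transpose_one]
  rw [Matrix.SpecialLinearGroup.coe_inv] at h1 h2
  simp [pairHom, Matrix.J, fromBlocks_transpose, fromBlocks_multiply, h1, h2]

theorem sum_pairHom_mul (n : ℕ) (A : Matrix.SpecialLinearGroup (Fin n) F) (x y : Fin n → F) :
    ∑ i, ((A : Matrix (Fin n) (Fin n) F) *ᵥ x) i *
      (((A⁻¹ : Matrix.SpecialLinearGroup (Fin n) F) : Matrix (Fin n) (Fin n) F)ᵀ *ᵥ y) i = ∑ i, x i * y i := by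
  change ((A : Matrix (Fin n) (Fin n) F) *ᵥ x) ⬝ᵥ _ = x ⬝ᵥ y
  rw [Matrix.dotProduct_mulVec, Matrix.vecMul_transpose, Matrix.mulVec_mulVec, ← Matrix.SpecialLinearGroup.coe_mul,
    inv_mul_cancel, Matrix.SpecialLinearGroup.coe_one, Matrix.one_mulVec]

/-- A homomorphism of a perfect group into an isometry group lands in `Ω`. -/
theorem exists_injective_Omega {ι : Type} [Fintype ι] [DecidableEq ι] (Q : (ι → F) → F) {H : Type*} [Group H]
    (hH : commutator H = ⊤) (φ : H →* Matrix ι ι F) (hφ : Function.Injective φ)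
    (hQ : ∀ h u, Q (φ h *ᵥ u) = Q u) :
    ∃ ψ : H →* Cfsg.Omega F Q, Function.Injective ψ := by
  let χ : H →* Cfsg.isometryGroup F Q := (φ.toHomUnits).codRestrict _ fun h => fun u _ => by
    simpa using hQ h u
  have hmem : ∀ h, χ h ∈ Cfsg.Omega F Q := fun h => by
    have h1 : χ h ∈ (commutator H).map χ := Subgroup.mem_map_of_mem χ (by rw [hH]; exact Subgroup.mem_top h)
    rw [map_commutator_eq] at h1
    exact Subgroup.commutator_mono le_top le_top h1
  refine ⟨χ.codRestrict _ hmem, fun a b h => hφ ?_⟩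
  have h2 : χ a = χ b := congrArg Subtype.val h
  have h3 := congrArg (fun z : Cfsg.isometryGroup F Q => ((z : GL ι F) : Matrix ι ι F)) h2
  exact h3

theorem exists_SL_Omega_plus (n : ℕ) (hn : 3 ≤ n) :
    ∃ φ : Matrix.SpecialLinearGroup (Fin n) F →* Cfsg.Omega F (Cfsg.quadFormPlus n F), Function.Injective φ :=
  exists_injective_Omega F _ (GL.SL_commutator_eq_top_of_three_le (by simpa using hn)) (pairHom F n)
    (pairHom_injective F n) fun A u => by
      simp only [pairHom, MonoidHom.coe_mk, OneHom.coe_mk, fromBlocks_mulVec, Matrix.zero_mulVec, add_zero, zero_add,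
        Cfsg.quadFormPlus, Sum.elim_inl, Sum.elim_inr]
      exact sum_pairHom_mul F n A _ _

theorem exists_SL_Omega_odd (n : ℕ) (hn : 3 ≤ n) :
    ∃ φ : Matrix.SpecialLinearGroup (Fin n) F →* Cfsg.Omega F (Cfsg.quadFormOdd n F), Function.Injective φ :=
  exists_injective_Omega F _ (GL.SL_commutator_eq_top_of_three_le (by simpa using hn))
    { toFun := fun A => fromBlocks (1 : Matrix Unit Unit F) 0 0 (pairHom F n A)
      map_one' := by simp [fromBlocks_one]
      map_mul' := fun A B => by simp [fromBlocks_multiply] }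
    (fun A B h => pairHom_injective F n (by simpa using congrArg Matrix.toBlocks₂₂ h)) fun A u => by
      simp only [pairHom, MonoidHom.coe_mk, OneHom.coe_mk, fromBlocks_mulVec, Matrix.zero_mulVec, add_zero, zero_add,
        Matrix.one_mulVec, Cfsg.quadFormOdd, Sum.elim_inl, Sum.elim_inr, Function.comp_apply]
      rw [sum_pairHom_mul]
      rfl

theorem exists_SL_Omega_minus (n : ℕ) (hn : 3 ≤ n) (a b : F) :
    ∃ φ : Matrix.SpecialLinearGroup (Fin n) F →* Cfsg.Omega F (Cfsg.quadFormMinus n F a b), Function.Injective φ :=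
  exists_injective_Omega F _ (GL.SL_commutator_eq_top_of_three_le (by simpa using hn))
    { toFun := fun A => fromBlocks (pairHom F n A) 0 0 (1 : Matrix (Fin 2) (Fin 2) F)
      map_one' := by simp [fromBlocks_one]
      map_mul' := fun A B => by simp [fromBlocks_multiply] }
    (fun A B h => pairHom_injective F n (by simpa using congrArg Matrix.toBlocks₁₁ h)) fun A u => by
      simp only [pairHom, MonoidHom.coe_mk, OneHom.coe_mk, fromBlocks_mulVec, Matrix.zero_mulVec, add_zero, zero_add,
        Matrix.one_mulVec, Cfsg.quadFormMinus, Sum.elim_inl, Sum.elim_inr, Function.comp_apply]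
      rw [sum_pairHom_mul]
      rfl

end SL

end Cfsg.Agent.WordLaw
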