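import Mathlib
import Cfsg.Prelude.Def_Sz
import Cfsg.Agent.Lib.WordLaw.SL2

/-!
# No nontrivial word is a law in large Suzuki groups
-/

set_option autoImplicit false

namespace Cfsg.Agent.WordLaw

open Matrix Cfsg.Lie

variable {F : Type*} [Field F]

/-- The lower unitriangular element of the Suzuki group with parameters `a`, `x`. -/
def szLow (r : ℕ) (a x : F) : GL (Fin 4) F :=
  GeneralLinearGroup.mkOfDetNeZero
    !![1, 0, 0, 0; a, 1, 0, 0; x, a ^ r, 1, 0; x ^ r + a * x + a ^ 2 * a ^ r, x + a * a ^ r, a, 1] (by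
      simp [Matrix.det_succ_row_zero, Fin.sum_univ_succ])

/-- The antidiagonal element. -/
def szFlip : GL (Fin 4) F :=
  GeneralLinearGroup.mkOfDetNeZero !![0, 0, 0, 1; 0, 0, 1, 0; 0, 1, 0, 0; 1, 0, 0, 0] (by
    simp [Matrix.det_succ_row_zero, Fin.sum_univ_succ, Fin.succAbove])

/-- The torus element. -/
def szTorus (r : ℕ) (t : F) (ht : t ≠ 0) : GL (Fin 4) F :=
  GeneralLinearGroup.mkOfDetNeZero (Matrix.diagonal ![t ^ (r + 1), t, t⁻¹, (t ^ (r + 1))⁻¹]) (by
    simp [Fin.prod_univ_four, ht])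

theorem altForm4_eq (u v : Fin 4 → F) : altForm4 u v = u 0 * v 3 + u 1 * v 2 + u 2 * v 1 + u 3 * v 0 := rfl

variable {m : ℕ} [Fintype F]

theorem charP_two_of_card (hF : Fintype.card F = 2 ^ (2 * m + 1)) : CharP F 2 := by
  obtain ⟨p, hp⟩ := CharP.exists F
  obtain ⟨n, hpp, hn⟩ := FiniteField.card F p
  have h : p ∣ 2 ^ (2 * m + 1) := by rw [← hF, hn]; exact dvd_pow_self p n.pos.ne'
  rwa [← (Nat.prime_dvd_prime_iff_eq hpp Nat.prime_two).mp (hpp.dvd_of_dvd_pow h)]

theorem pow_theta_theta (hF : Fintype.card F = 2 ^ (2 * m + 1)) (x : F) :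
    (x ^ 2 ^ (m + 1)) ^ 2 ^ (m + 1) = x ^ 2 := by
  rw [← pow_mul, ← pow_add, show m + 1 + (m + 1) = 2 * m + 1 + 1 by ring, pow_succ 2 (2 * m + 1), pow_mul,
    ← hF, FiniteField.pow_card]

theorem add_pow_theta [CharP F 2] (k : ℕ) (x y : F) : (x + y) ^ 2 ^ k = x ^ 2 ^ k + y ^ 2 ^ k :=
  add_pow_char_pow x y 2 k

theorem szLow_mem (hF : Fintype.card F = 2 ^ (2 * m + 1)) (a x : F) :
    szLow (2 ^ (m + 1)) a x ∈ Sz F (2 ^ (m + 1)) := by
  have := charP_two_of_card hF
  have h2 : (2 : F) = 0 := CharTwo.two_eq_zero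
  refine Subgroup.subset_closure ⟨fun u v => ?_, ?_⟩
  · simp [szLow, altForm4_eq, Matrix.mulVec, dotProduct, Fin.sum_univ_four]
    grind
  · have hz : (x ^ 2 ^ (m + 1) + a * x + a ^ 2 * a ^ 2 ^ (m + 1)) ^ 2 ^ (m + 1) =
        x ^ 2 + a ^ 2 ^ (m + 1) * x ^ 2 ^ (m + 1) + (a ^ 2 ^ (m + 1)) ^ 2 * a ^ 2 := by
      rw [add_pow_theta, add_pow_theta, mul_pow, mul_pow, pow_theta_theta hF, pow_theta_theta hF,
        ← pow_mul, mul_comm 2, pow_mul]
    have hw : (x + a * a ^ 2 ^ (m + 1)) ^ 2 ^ (m + 1) = x ^ 2 ^ (m + 1) + a ^ 2 ^ (m + 1) * a ^ 2 := by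
      rw [add_pow_theta, mul_pow, pow_theta_theta hF]
    have hy := pow_theta_theta hF a
    have h0 : (0 : F) ^ 2 ^ (m + 1) = 0 := zero_pow (by positivity)
    ext i j
    fin_cases i <;> fin_cases j <;>
      simp [szLow, star4, pairOf, Matrix.map_apply] <;> grind

theorem szFlip_mem (hF : Fintype.card F = 2 ^ (2 * m + 1)) : szFlip ∈ Sz F (2 ^ (m + 1)) := by
  have := charP_two_of_card hF
  have h2 : (2 : F) = 0 := CharTwo.two_eq_zero
  have h0 : (0 : F) ^ 2 ^ (m + 1) = 0 := zero_pow (by positivity)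
  refine Subgroup.subset_closure ⟨fun u v => ?_, ?_⟩
  · simp [szFlip, altForm4_eq, Matrix.mulVec, dotProduct, Fin.sum_univ_four]
    grind
  · ext i j
    fin_cases i <;> fin_cases j <;> simp [szFlip, star4, pairOf, Matrix.map_apply, CharTwo.neg_eq]

theorem szTorus_mem (hF : Fintype.card F = 2 ^ (2 * m + 1)) (t : F) (ht : t ≠ 0) :
    szTorus (2 ^ (m + 1)) t ht ∈ Sz F (2 ^ (m + 1)) := by
  have := charP_two_of_card hF
  have h0 : (0 : F) ^ 2 ^ (m + 1) = 0 := zero_pow (by positivity)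
  refine Subgroup.subset_closure ⟨fun u v => ?_, ?_⟩
  · simp [szTorus, altForm4_eq, Matrix.mulVec, dotProduct, Fin.sum_univ_four]
    field_simp
  · have hth : (t ^ (2 ^ (m + 1) + 1)) ^ 2 ^ (m + 1) = t ^ 2 * t ^ 2 ^ (m + 1) := by
      rw [pow_succ, mul_pow, pow_theta_theta hF]
    have hts : t ^ (2 ^ (m + 1) + 1) = t ^ 2 ^ (m + 1) * t := pow_succ _ _
    have hne : t ^ 2 ^ (m + 1) ≠ 0 := pow_ne_zero _ ht
    ext i j
    fin_cases i <;> fin_cases j <;> simp [szTorus, star4, pairOf, Matrix.map_apply, inv_pow, h0, hth] <;>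
      field_simp <;> simp only [hts, hth] <;> ring_nf

/-- General position parameters. -/
theorem exists_general_position (r : ℕ) (k : ℕ) (hk : 2 * k * (r + 2) < Fintype.card F) :
    ∃ c : ℕ → F, ∀ j < k, ∀ i < j,
      c i ^ 2 * c i ^ r + c j ^ 2 * c j ^ r ≠ 0 ∧
      c i ^ 2 * c i ^ r + c j ^ 2 * c j ^ r + c i + c j + 1 ≠ 0 := by
  classical
  induction k with
  | zero => exact ⟨fun _ => 0, by simp⟩
  | succ k ih =>
    obtain ⟨c, hc⟩ := ih (lt_of_le_of_lt (by gcongr; exact Nat.le_succ k) hk)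
    let Φ : Polynomial F := ∏ i ∈ Finset.range k,
      ((Polynomial.X ^ (r + 2) + Polynomial.C (c i ^ 2 * c i ^ r)) *
        (Polynomial.X ^ (r + 2) + Polynomial.X + Polynomial.C (c i ^ 2 * c i ^ r + c i + 1)))
    have d1 : ∀ a : F, (Polynomial.X ^ (r + 2) + Polynomial.C a).natDegree = r + 2 :=
      fun a => Polynomial.natDegree_X_pow_add_C
    have d2 : ∀ a : F, (Polynomial.X ^ (r + 2) + Polynomial.X + Polynomial.C a).natDegree = r + 2 := fun a => by
      compute_degree!
    have e1 : ∀ a : F, Polynomial.X ^ (r + 2) + Polynomial.C a ≠ 0 := fun a h => by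
      have := d1 a; rw [h] at this; simp at this
    have e2 : ∀ a : F, Polynomial.X ^ (r + 2) + Polynomial.X + Polynomial.C a ≠ 0 := fun a h => by
      have := d2 a; rw [h] at this; simp at this
    have hΦ0 : Φ ≠ 0 := Finset.prod_ne_zero_iff.mpr fun i _ => mul_ne_zero (e1 _) (e2 _)
    have hΦd : Φ.natDegree ≤ 2 * k * (r + 2) := by
      refine (Polynomial.natDegree_prod_le _ _).trans ((Finset.sum_le_card_nsmul _ _ (2 * (r + 2)) ?_).trans ?_)
      · intro i _
        refine Polynomial.natDegree_mul_le.trans ?_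
        rw [d1, d2]; omega
      · simp; ring_nf; rfl
    obtain ⟨y, hy⟩ : ∃ y : F, y ∉ Φ.roots.toFinset := by
      by_contra h
      push Not at h
      have h1 : Fintype.card F ≤ Φ.roots.toFinset.card :=
        Finset.card_le_card (s := Finset.univ) fun x _ => h x
      have h3 := (Multiset.toFinset_card_le Φ.roots).trans (Polynomial.card_roots' Φ)
      nlinarith
    rw [Multiset.mem_toFinset, Polynomial.mem_roots hΦ0, Polynomial.IsRoot, Polynomial.eval_prod,
      Finset.prod_eq_zero_iff] at hy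
    push Not at hy
    refine ⟨Function.update c k y, fun j hj i hi => ?_⟩
    rcases Nat.lt_succ_iff_lt_or_eq.mp hj with hj | rfl
    · rw [Function.update_of_ne hj.ne, Function.update_of_ne (hi.trans hj).ne]
      exact hc j hj i hi
    · rw [Function.update_self, Function.update_of_ne hi.ne]
      have h := hy i (Finset.mem_range.mpr hi)
      simp only [Polynomial.eval_mul, Polynomial.eval_add, Polynomial.eval_pow, Polynomial.eval_X,
        Polynomial.eval_C, mul_ne_zero_iff, pow_add] at h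
      refine ⟨fun h0 => h.1 ?_, fun h0 => h.2 ?_⟩ <;> linear_combination h0

theorem exists_sz_lift_ne_one (w : FreeGroup ℕ) (hw : w ≠ 1) (hF : Fintype.card F = 2 ^ (2 * m + 1))
    (hm : 4 * wordBound w + 1 ≤ m) :
    ∃ f : ℕ → Sz F (2 ^ (m + 1)), FreeGroup.lift f w ≠ 1 := by
  classical
  have := charP_two_of_card hF
  have h2 : (2 : F) = 0 := CharTwo.two_eq_zero
  set k := wordBound w with hk
  set r := 2 ^ (m + 1) with hr
  have hbig : 4 * k + 1 < 2 ^ m := lt_of_le_of_lt hm Nat.lt_two_pow_self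
  have hr' : r = 2 * 2 ^ m := by rw [hr, pow_succ]; ring
  have hq : Fintype.card F = 2 * (2 ^ m * 2 ^ m) := by rw [hF]; ring
  have hm1 : 1 ≤ 2 ^ m := Nat.one_le_two_pow
  obtain ⟨c, hc⟩ := exists_general_position (F := F) r k (by rw [hr', hq]; nlinarith)
  let Pg : ℕ → Sz F r := fun i => ⟨szLow r (c i) 0, szLow_mem hF _ _⟩ *
    ⟨szFlip, szFlip_mem hF⟩ * ⟨szLow r 1 0, szLow_mem hF _ _⟩ * ⟨szFlip, szFlip_mem hF⟩
  let h : F → Sz F r := fun s => if hs : s = 0 then 1 else ⟨szTorus r s hs, szTorus_mem hF s hs⟩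
  let toM : Sz F r →* Matrix (Fin 4) (Fin 4) F :=
    (Units.coeHom (Matrix (Fin 4) (Fin 4) F)).comp (Sz F r).subtype
  have hSp : ∀ g : Sz F r, (g : GL (Fin 4) F) ∈ Sp4 F := fun g =>
    (show Sz F r ≤ Sp4 F from (Subgroup.closure_le _).mpr fun x hx => hx.1) g.2
  have hentry : ∀ (a b : Sz F r) (f : Fin 4),
      toM (a⁻¹ * b) 0 f = altForm4 (fun l => toM a l 3) (fun l => toM b l f) ∧
      toM (a⁻¹ * b) 3 f = altForm4 (fun l => toM a l 0) (fun l => toM b l f) := by
    intro a b f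
    have hb : toM a *ᵥ (toM (a⁻¹ * b) *ᵥ Pi.single f 1) = toM b *ᵥ Pi.single f 1 := by
      rw [Matrix.mulVec_mulVec, ← map_mul, mul_inv_cancel_left]
    have h3 : altForm4 (toM a *ᵥ Pi.single 3 1) (toM a *ᵥ (toM (a⁻¹ * b) *ᵥ Pi.single f 1)) = _ :=
      hSp a (Pi.single 3 1) (toM (a⁻¹ * b) *ᵥ Pi.single f 1)
    have h0 : altForm4 (toM a *ᵥ Pi.single 0 1) (toM a *ᵥ (toM (a⁻¹ * b) *ᵥ Pi.single f 1)) = _ :=
      hSp a (Pi.single 0 1) (toM (a⁻¹ * b) *ᵥ Pi.single f 1)
    rw [hb] at h3 h0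
    simp only [Matrix.mulVec_single_one] at h3 h0
    constructor
    · exact (h3.trans (by simp [altForm4_eq])).symm
    · exact (h0.trans (by simp [altForm4_eq])).symm
  have hcol : ∀ i, (fun l => toM (Pg i) l 0) = ![1, c i, 0, c i ^ 2 * c i ^ r] ∧
      (fun l => toM (Pg i) l 3) = ![1, c i, 1, c i ^ 2 * c i ^ r + c i + 1] := by
    intro i
    have h0 : (0 : F) ^ r = 0 := zero_pow (by positivity)
    constructor <;> funext l <;> fin_cases l <;>
      simp [toM, Pg, szLow, szFlip, Matrix.mul_apply, Fin.sum_univ_four, h0, one_pow] <;> grind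
  obtain ⟨f, hf⟩ := exists_lift_not_scalar toM w hw Pg h
    (fun b => cond b ![2 * r + 2, r + 2, r, 0] ![0, r, r + 2, 2 * r + 2]) (fun b => cond b 0 3) (2 * r + 2)
    (fun b => by cases b <;> rfl)
    (fun b i hi => by
      have : 0 < r := by positivity
      cases b <;> fin_cases i <;> first | exact absurd rfl hi | simp <;> omega)
    (fun b s hs => by
      refine ⟨(s ^ (r + 1))⁻¹, inv_ne_zero (pow_ne_zero _ hs), ?_⟩
      have e1 : s ^ (2 * r + 2) = s ^ (r + 1) * s ^ (r + 1) := by rw [← pow_add]; ring_nf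
      have e2 : s ^ (r + 2) = s ^ (r + 1) * s := by rw [← pow_succ]
      have e3 : s ^ r = s ^ (r + 1) * s⁻¹ := by rw [pow_succ]; field_simp
      have hne : s ^ (r + 1) ≠ 0 := pow_ne_zero _ hs
      cases b
      · simp only [cond_false, h, dif_neg hs, toM, MonoidHom.comp_apply, Subgroup.coe_subtype,
          InvMemClass.coe_inv, Units.coeHom_apply]
        rw [Units.inv_eq_of_mul_eq_one_right]
        ext i j
        fin_cases i <;> fin_cases j <;>
          simp [szTorus, Matrix.diagonal, Matrix.mul_apply, Fin.sum_univ_four, e1, e2, e3, hs, hne]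
      · ext i j
        fin_cases i <;> fin_cases j <;>
          simp [h, hs, toM, szTorus, Matrix.diagonal, e1, e2, e3, hne])
    (fun a ha b hb hab => by
      obtain ⟨i, s⟩ := a
      obtain ⟨j, t⟩ := b
      have hi : i < k := fst_lt_wordBound ha
      have hj : j < k := fst_lt_wordBound hb
      simp only at hab
      rcases lt_trichotomy i j with hij | hij | hij
      · obtain ⟨q1, q2⟩ := hc j hj i hij
        cases s <;> cases t <;>
          simp only [cond_true, cond_false, (hentry _ _ _).1, (hentry _ _ _).2, (hcol i).1, (hcol i).2,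
            (hcol j).1, (hcol j).2] <;> simp [altForm4_eq] <;> intro h0 <;>
          first | exact q2 (by grind) | exact q1 (by grind)
      · subst hij
        obtain rfl := hab rfl
        cases s <;> simp [toM]
      · obtain ⟨q1, q2⟩ := hc i hi j hij
        cases s <;> cases t <;>
          simp only [cond_true, cond_false, (hentry _ _ _).1, (hentry _ _ _).2, (hcol i).1, (hcol i).2,
            (hcol j).1, (hcol j).2] <;> simp [altForm4_eq] <;> intro h0 <;>
          first | exact q2 (by grind) | exact q1 (by grind))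
    (by
      have := length_le_wordBound w
      rw [hr', hq]; nlinarith)
  refine ⟨f, fun h1 => hf 1 ?_⟩
  rw [h1, map_one, one_smul]

end Cfsg.Agent.WordLaw
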