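import Mathlib
import Cfsg.Prelude.Def_Classical
import Cfsg.Agent.Lib.WordLaw.Embed

/-!
# A law bounds the field and the rank of a unitary group
-/

set_option autoImplicit false

namespace Cfsg.Agent.WordLaw

open Matrix

variable {F : Type*} [Field F] [Fintype F] {q : ℕ}

theorem exists_add_pow_of_card_sq (hF : Fintype.card F = q ^ 2) :
    2 ≤ q ∧ ∀ x y : F, (x + y) ^ q = x ^ q + y ^ q := by
  obtain ⟨p, hp⟩ := CharP.exists F
  obtain ⟨n, hpp, hn⟩ := FiniteField.card F p
  have := Fact.mk hpp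
  obtain ⟨j, _, hj⟩ := (Nat.dvd_prime_pow hpp).mp (show q ∣ p ^ (n : ℕ) by rw [← hn, hF]; exact dvd_pow_self q two_ne_zero)
  refine ⟨?_, fun x y => by rw [hj]; exact add_pow_char_pow x y p j⟩
  have : 1 < Fintype.card F := Fintype.one_lt_card
  by_contra h
  interval_cases q <;> omega

theorem pow_q_q (hF : Fintype.card F = q ^ 2) (x : F) : (x ^ q) ^ q = x := by
  rw [← pow_mul, ← pow_two, ← hF, FiniteField.pow_card]

/-- Two isotropic vectors and a skew scalar. -/
theorem exists_hyperbolic_params (hF : Fintype.card F = q ^ 2) :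
    ∃ a b l : F, a ^ (q + 1) = -1 ∧ b ^ (q + 1) = -1 ∧ a ≠ b ∧ l ≠ 0 ∧
      (l ^ q * (1 + a * b ^ q)) ^ q = -(l ^ q * (1 + a * b ^ q)) := by
  classical
  obtain ⟨hq2, hadd⟩ := exists_add_pow_of_card_sq hF
  obtain ⟨g, hg⟩ := IsCyclic.exists_generator (α := Fˣ)
  have hord : orderOf g = (q - 1) * (q + 1) := by
    rw [orderOf_eq_card_of_forall_mem_zpowers hg, Nat.card_eq_fintype_card, Fintype.card_units, hF]
    obtain ⟨k, rfl⟩ : ∃ k, q = k + 1 := ⟨q - 1, by omega⟩
    simp only [Nat.add_sub_cancel]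
    rw [show (k + 1) ^ 2 = k * (k + 2) + 1 by ring, Nat.add_sub_cancel]
  obtain ⟨k, hk⟩ : ∃ k : ℕ, g ^ k = -1 := by
    have := hg (-1)
    rw [← mem_powers_iff_mem_zpowers, Submonoid.mem_powers_iff] at this
    exact this
  have h1 : ((-1 : F)) ^ (q - 1) = 1 := by
    have h3 : ((-1 : F)) ^ q = -1 := by
      have h := hadd 1 (-1)
      rw [add_neg_cancel, zero_pow (by omega), one_pow] at h
      linear_combination -h
    have h4 : ((-1 : F)) ^ (q - 1) * (-1) = -1 := by rw [← pow_succ, Nat.sub_add_cancel (by omega), h3]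
    linear_combination -h4
  obtain ⟨t, ht⟩ : q + 1 ∣ k := by
    have h2 : g ^ (k * (q - 1)) = 1 := by
      rw [pow_mul, hk]; exact Units.ext (by simpa using h1)
    have h3 : (q - 1) * (q + 1) ∣ (q - 1) * k := by
      rw [← hord, mul_comm _ k]; exact orderOf_dvd_of_pow_eq_one h2
    exact Nat.dvd_of_mul_dvd_mul_left (by omega) h3
  set a : F := ((g ^ t : Fˣ) : F) with ha
  set z : F := ((g ^ (q - 1) : Fˣ) : F) with hz
  have haq : a ^ (q + 1) = -1 := by
    rw [ha, ← Units.val_pow_eq_pow_val, ← pow_mul, mul_comm, ← ht, hk]; simp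
  have hzq : z ^ (q + 1) = 1 := by
    rw [hz, ← Units.val_pow_eq_pow_val, ← pow_mul, ← hord, pow_orderOf_eq_one]; simp
  have hz1 : z ≠ 1 := by
    intro h
    have h2 : g ^ (q - 1) = 1 := Units.ext (by simpa [hz] using h)
    have h3 := Nat.le_of_dvd (by omega) (orderOf_dvd_of_pow_eq_one h2)
    rw [hord] at h3
    nlinarith [Nat.sub_add_cancel (show 1 ≤ q by omega)]
  have ha0 : a ≠ 0 := Units.ne_zero _
  have hκ : 1 + a * (a * z) ^ q ≠ 0 := by
    intro h
    have hz0 : z ≠ 0 := Units.ne_zero _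
    have h2 : a * (a * z) ^ q * z = -1 := by
      rw [mul_pow, show a * (a ^ q * z ^ q) * z = a ^ (q + 1) * z ^ (q + 1) by ring, haq, hzq, mul_one]
    apply hz1
    linear_combination z * h - h2
  obtain ⟨c, hc⟩ : ∃ c : F, c ^ q ≠ c := by
    by_contra h
    push Not at h
    have hne : (Polynomial.X ^ q - Polynomial.X : Polynomial F) ≠ 0 := by
      intro h0
      have := Polynomial.natDegree_sub_eq_left_of_natDegree_lt (p := (Polynomial.X ^ q : Polynomial F))
        (q := Polynomial.X) (by rw [Polynomial.natDegree_X, Polynomial.natDegree_X_pow]; omega)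
      rw [h0, Polynomial.natDegree_zero, Polynomial.natDegree_X_pow] at this
      omega
    have h1 : Fintype.card F ≤ (Polynomial.X ^ q - Polynomial.X : Polynomial F).roots.toFinset.card :=
      Finset.card_le_card (s := Finset.univ) fun x _ => by
        rw [Multiset.mem_toFinset, Polynomial.mem_roots hne]
        simp [h x]
    have h2 := (Multiset.toFinset_card_le _).trans (Polynomial.card_roots' (Polynomial.X ^ q - Polynomial.X : Polynomial F))
    have h3 : (Polynomial.X ^ q - Polynomial.X : Polynomial F).natDegree ≤ q :=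
      (Polynomial.natDegree_sub_le _ _).trans (by rw [Polynomial.natDegree_X, Polynomial.natDegree_X_pow]; omega)
    rw [hF] at h1
    nlinarith
  refine ⟨a, a * z, (((c - c ^ q) / (1 + a * (a * z) ^ q))) ^ q, haq, ?_, ?_, ?_, ?_⟩
  · rw [mul_pow, haq, hzq, mul_one]
  · intro h
    exact hz1 (mul_left_cancel₀ ha0 (by rw [mul_one]; exact h.symm))
  · exact pow_ne_zero _ (div_ne_zero (sub_ne_zero.mpr (Ne.symm hc)) hκ)
  · rw [pow_q_q hF, div_mul_cancel₀ _ hκ]
    have hn : ∀ x : F, (-x) ^ q = -x ^ q := fun x => by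
      have h := hadd x (-x)
      rw [add_neg_cancel, zero_pow (by omega)] at h
      linear_combination -h
    rw [sub_eq_add_neg, hadd, hn, pow_q_q hF]; ring

/-- The subfield fixed by `x ↦ x ^ q`. -/
def qFixed (hF : Fintype.card F = q ^ 2) : Subfield F where
  carrier := {x | x ^ q = x}
  one_mem' := one_pow q
  zero_mem' := zero_pow (by rintro rfl; simp [Fintype.card_ne_zero] at hF)
  mul_mem' {x y} hx hy := by show (x * y) ^ q = x * y; rw [mul_pow, hx, hy]
  add_mem' {x y} hx hy := by show (x + y) ^ q = x + y; rw [(exists_add_pow_of_card_sq hF).2, hx, hy]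
  neg_mem' {x} hx := by
    show (-x) ^ q = -x
    have h := (exists_add_pow_of_card_sq hF).2 x (-x)
    rw [add_neg_cancel, zero_pow (by rintro rfl; simp [Fintype.card_ne_zero] at hF),
      show x ^ q = x from hx] at h
    linear_combination -h
  inv_mem' x hx := by show x⁻¹ ^ q = x⁻¹; rw [inv_pow, hx]

theorem card_qFixed [DecidableEq F] (hF : Fintype.card F = q ^ 2) [Fintype (qFixed hF)] :
    q - 1 ≤ Fintype.card (qFixed hF) := by
  obtain ⟨hq2, -⟩ := exists_add_pow_of_card_sq hF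
  obtain ⟨g, hg⟩ := IsCyclic.exists_generator (α := Fˣ)
  have hord : orderOf g = (q - 1) * (q + 1) := by
    rw [orderOf_eq_card_of_forall_mem_zpowers hg, Nat.card_eq_fintype_card, Fintype.card_units, hF]
    obtain ⟨k, rfl⟩ : ∃ k, q = k + 1 := ⟨q - 1, by omega⟩
    simp only [Nat.add_sub_cancel]
    rw [show (k + 1) ^ 2 = k * (k + 2) + 1 by ring, Nat.add_sub_cancel]
  let f : Fin (q - 1) → qFixed hF := fun i => ⟨((g ^ ((q + 1) * i.val) : Fˣ) : F), by
    show _ ^ q = _
    rw [← Units.val_pow_eq_pow_val, ← pow_mul]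
    have : (q + 1) * i.val * q = (q + 1) * i.val + (q - 1) * (q + 1) * i.val := by
      obtain ⟨k, rfl⟩ : ∃ k, q = k + 1 := ⟨q - 1, by omega⟩
      simp only [Nat.add_sub_cancel]; ring
    rw [this, pow_add, pow_mul g ((q-1)*(q+1)), ← hord, pow_orderOf_eq_one, one_pow, mul_one]⟩
  have hf : Function.Injective f := fun i j h => by
    have h1 : g ^ ((q + 1) * i.val) = g ^ ((q + 1) * j.val) := Units.ext (congrArg Subtype.val h)
    rw [pow_eq_pow_iff_modEq, hord] at h1
    have hi : (q + 1) * i.val < (q - 1) * (q + 1) := by nlinarith [i.2]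
    have hj : (q + 1) * j.val < (q - 1) * (q + 1) := by nlinarith [j.2]
    exact Fin.ext (Nat.eq_of_mul_eq_mul_left (by omega) (h1.eq_of_lt_of_lt hi hj))
  simpa using Fintype.card_le_of_injective f hf

set_option maxHeartbeats 1000000 in
theorem exists_SL2_SU (hF : Fintype.card F = q ^ 2) (n : ℕ) (hn : 2 ≤ n) :
    ∃ φ : Matrix.SpecialLinearGroup (Fin 2) (qFixed hF) →* Cfsg.SU n F q, Function.Injective φ := by
  obtain ⟨k, rfl⟩ : ∃ k, n = 2 + k := ⟨n - 2, by omega⟩
  obtain ⟨a, b, l, ha, hb, hab, hl, hskew⟩ := exists_hyperbolic_params hF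
  obtain ⟨hq2, hadd⟩ := exists_add_pow_of_card_sq hF
  have hd : Matrix.det !![1, l; a, l * b] ≠ 0 := by
    rw [det_fin_two_of, show 1 * (l * b) - l * a = l * (b - a) by ring]
    exact mul_ne_zero hl (sub_ne_zero.mpr hab.symm)
  let C : GL (Fin 2) F := GeneralLinearGroup.mkOfDetNeZero !![1, l; a, l * b] hd
  let φ₀ : Matrix.SpecialLinearGroup (Fin 2) (qFixed hF) →* Matrix (Fin 2) (Fin 2) F :=
    { toFun := fun A => (C : Matrix (Fin 2) (Fin 2) F) * (A : Matrix (Fin 2) (Fin 2) (qFixed hF)).map (qFixed hF).subtype *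
        ((C⁻¹ : GL (Fin 2) F) : Matrix (Fin 2) (Fin 2) F)
      map_one' := by
        simp only [Matrix.SpecialLinearGroup.coe_one, Matrix.map_one _ (map_zero (qFixed hF).subtype) (map_one (qFixed hF).subtype),
          mul_one, Units.mul_inv]
      map_mul' := fun A B => by
        simp only [Matrix.SpecialLinearGroup.coe_mul, Matrix.map_mul, mul_assoc, Units.inv_mul_cancel_left] }
  have hφ₀ : Function.Injective φ₀ := fun A B h => by
    have h1 : (A : Matrix (Fin 2) (Fin 2) (qFixed hF)).map (qFixed hF).subtype = (B : Matrix (Fin 2) (Fin 2) (qFixed hF)).map (qFixed hF).subtype :=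
      C.isUnit.mul_left_cancel (C⁻¹.isUnit.mul_right_cancel h)
    exact Subtype.ext (Matrix.map_injective Subtype.val_injective h1)
  -- the form in the new basis
  let κ : F := l ^ q * (1 + a * b ^ q)
  have hform : ∀ u v : Fin 2 → F, Cfsg.hermForm 2 F q ((C : Matrix (Fin 2) (Fin 2) F) *ᵥ u) ((C : Matrix (Fin 2) (Fin 2) F) *ᵥ v)
      = κ * (u 0 * v 1 ^ q - u 1 * v 0 ^ q) := by
    intro u v
    have hk : -κ = l * (1 + b * a ^ q) := by
      simp only [κ]
      rw [← hskew, mul_pow, pow_q_q hF, hadd, one_pow, mul_pow, pow_q_q hF, mul_comm (a ^ q) b]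
    simp [C, Cfsg.hermForm, Matrix.mulVec, dotProduct, Fin.sum_univ_two, hadd, mul_pow, κ]
    simp only [κ] at hk
    linear_combination (u 1 * v 0 ^ q) * hk.symm + (u 0 * v 0 ^ q) * ha + (l * l ^ q * (u 1 * v 1 ^ q)) * hb
  have hpres : ∀ A u v, Cfsg.hermForm 2 F q (φ₀ A *ᵥ u) (φ₀ A *ᵥ v) = Cfsg.hermForm 2 F q u v := by
    intro A u v
    have hfix : ∀ i j, ((A : Matrix (Fin 2) (Fin 2) (qFixed hF)) i j : F) ^ q = ((A : Matrix (Fin 2) (Fin 2) (qFixed hF)) i j : F) :=
      fun i j => ((A : Matrix (Fin 2) (Fin 2) (qFixed hF)) i j).2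
    have hA : ((A : Matrix (Fin 2) (Fin 2) (qFixed hF)) 0 0 : F) * (A : Matrix (Fin 2) (Fin 2) (qFixed hF)) 1 1 -
        ((A : Matrix (Fin 2) (Fin 2) (qFixed hF)) 0 1 : F) * (A : Matrix (Fin 2) (Fin 2) (qFixed hF)) 1 0 = 1 := by
      have h := congrArg Subtype.val A.2
      rw [Matrix.det_fin_two] at h
      exact h
    have hC : ∀ u : Fin 2 → F, u = (C : Matrix (Fin 2) (Fin 2) F) *ᵥ (((C⁻¹ : GL (Fin 2) F) : Matrix (Fin 2) (Fin 2) F) *ᵥ u) :=
      fun u => by rw [Matrix.mulVec_mulVec, Units.mul_inv, Matrix.one_mulVec]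
    show Cfsg.hermForm 2 F q (((C : Matrix (Fin 2) (Fin 2) F) * _ * _) *ᵥ u) (((C : Matrix (Fin 2) (Fin 2) F) * _ * _) *ᵥ v) = _
    rw [← Matrix.mulVec_mulVec, ← Matrix.mulVec_mulVec, ← Matrix.mulVec_mulVec, ← Matrix.mulVec_mulVec, hform]
    conv_rhs => rw [hC u, hC v, hform]
    generalize ((C⁻¹ : GL (Fin 2) F) : Matrix (Fin 2) (Fin 2) F) *ᵥ u = x
    generalize ((C⁻¹ : GL (Fin 2) F) : Matrix (Fin 2) (Fin 2) F) *ᵥ v = y
    simp only [Matrix.mulVec, dotProduct, Fin.sum_univ_two, Matrix.map_apply, Subfield.coe_subtype, hadd, mul_pow, hfix]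
    linear_combination (κ * (x 0 * y 1 ^ q - x 1 * y 0 ^ q)) * hA
  have hdet : ∀ A, (φ₀ A).det = 1 := fun A => by
    have h := congrArg (qFixed hF).subtype A.2
    rw [RingHom.map_det, map_one, RingHom.mapMatrix_apply] at h
    show (_ * _ * _ : Matrix (Fin 2) (Fin 2) F).det = 1
    rw [Matrix.det_mul, Matrix.det_mul, h, mul_one, ← Matrix.det_mul, Units.mul_inv, Matrix.det_one]
  let φ₁ : Matrix.SpecialLinearGroup (Fin 2) (qFixed hF) →* Matrix.SpecialLinearGroup (Fin (2 + k)) F :=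
    { toFun := fun A => slOf (Matrix.reindexAlgEquiv F F finSumFinEquiv
          (fromBlocks (φ₀ A) 0 0 (1 : Matrix (Fin k) (Fin k) F))) (by
        rw [Matrix.det_reindexAlgEquiv, det_fromBlocks_zero₁₂, det_one, mul_one, hdet])
      map_one' := by
        apply Subtype.ext
        rw [coe_slOf, Matrix.SpecialLinearGroup.coe_one, map_one, fromBlocks_one, map_one]
      map_mul' := fun A B => by
        apply Subtype.ext
        simp only [Matrix.SpecialLinearGroup.coe_mul, coe_slOf, ← map_mul, fromBlocks_multiply,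
          Matrix.mul_zero, Matrix.zero_mul, add_zero, zero_add, Matrix.one_mul] }
  refine ⟨φ₁.codRestrict _ fun A => ?_, fun A B h => hφ₀ ?_⟩
  · intro u v
    have hmv : ∀ (z : Fin (2 + k) → F) (x : Fin 2 ⊕ Fin k), (Cfsg.slToMat (2 + k) F (φ₁ A) *ᵥ z) (finSumFinEquiv x) =
        Sum.elim (φ₀ A *ᵥ (z ∘ finSumFinEquiv ∘ Sum.inl)) (z ∘ finSumFinEquiv ∘ Sum.inr) x := by
      intro z x
      show (Matrix.reindex finSumFinEquiv finSumFinEquiv (fromBlocks (φ₀ A) 0 0 1) *ᵥ z) _ = _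
      rw [Matrix.reindex_apply, Matrix.submatrix_mulVec_equiv]
      simp [fromBlocks_mulVec, Function.comp_assoc]
    simp only [Cfsg.hermForm]
    rw [← finSumFinEquiv.sum_comp, ← finSumFinEquiv.sum_comp]
    simp only [Fintype.sum_sum_type, hmv, Sum.elim_inl, Sum.elim_inr]
    exact congrArg₂ (· + ·) (hpres A (u ∘ finSumFinEquiv ∘ Sum.inl) (v ∘ finSumFinEquiv ∘ Sum.inl)) rfl
  · have h1 : φ₁ A = φ₁ B := congrArg Subtype.val h
    have h2 := (Matrix.reindexAlgEquiv F F finSumFinEquiv).injective (congrArg Subtype.val h1)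
    simpa using congrArg Matrix.toBlocks₁₁ h2

theorem exists_perm_SU (n : ℕ) :
    ∃ φ : alternatingGroup (Fin n) →* Cfsg.SU n F q, Function.Injective φ := by
  let φ₁ : alternatingGroup (Fin n) →* Matrix.SpecialLinearGroup (Fin n) F :=
    { toFun := fun σ => slOf (Equiv.Perm.permMatrix F (σ⁻¹ : Equiv.Perm (Fin n))) (by
        rw [Matrix.det_permutation, Equiv.Perm.sign_inv, Equiv.Perm.mem_alternatingGroup.mp σ.2]
        simp)
      map_one' := by apply Subtype.ext; simp [coe_slOf]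
      map_mul' := fun a b => by apply Subtype.ext; simp [coe_slOf, _root_.mul_inv_rev, Matrix.permMatrix_mul] }
  refine ⟨φ₁.codRestrict _ fun σ => ?_, fun a b h => ?_⟩
  · intro u v
    show Cfsg.hermForm n F q (Equiv.Perm.permMatrix F (σ : Equiv.Perm (Fin n))⁻¹ *ᵥ u)
      (Equiv.Perm.permMatrix F (σ : Equiv.Perm (Fin n))⁻¹ *ᵥ v) = _
    rw [Matrix.permMatrix_mulVec, Matrix.permMatrix_mulVec]
    exact Equiv.sum_comp (σ : Equiv.Perm (Fin n))⁻¹ (fun i => u i * v i ^ q)
  · have h1 : Equiv.Perm.permMatrix F (a : Equiv.Perm (Fin n))⁻¹ = Equiv.Perm.permMatrix F (b : Equiv.Perm (Fin n))⁻¹ :=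
      congrArg Subtype.val (congrArg Subtype.val h)
    refine Subtype.ext (inv_injective (Equiv.ext fun i => ?_))
    have h2 := congrFun (congrFun h1 i) ((a : Equiv.Perm (Fin n))⁻¹ i)
    simp [Equiv.Perm.permMatrix, PEquiv.toMatrix_apply] at h2
    exact h2.symm

theorem CentralLaw.bounds_of_SU {w : FreeGroup ℕ} {n : ℕ} (hF : Fintype.card F = q ^ 2)
    (hK : CentralLaw w (Cfsg.SU n F q)) (hw : w ≠ 1) (hn : 2 ≤ n) :
    q ≤ 2 * wordBound w + 3 ∧ n < wordBound w + 4 := by
  classical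
  obtain ⟨φ, hφ⟩ := exists_SL2_SU hF n hn
  obtain ⟨χ, hχ⟩ := exists_perm_SU (F := F) (q := q) n
  refine ⟨?_, hK.degree_lt hw χ hχ⟩
  have h1 := hK.card_field_lt hw φ hφ
  have h2 := card_qFixed hF
  omega

end Cfsg.Agent.WordLaw
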